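import Cfsg.Agent.H134.Sq.Base_m3
import Cfsg.Agent.H711.BabyRow
import Cfsg.Agent.Prune
set_option linter.all false
prune_inst 0x7f00000000000000000000000000000000000000000000000000000000000000000000000000000000000000000000000000000000000000000000000000000000000000000000000000000000000000003fffffffffffffffffffffffffffbeffbdffffffff
open scoped Cfsg.Agent.FastGrp

/-!
# S2443, row `B`: the 3-elements (helper58)

`Fi₂₃ ≤ B` contains a Sylow 3-subgroup of `B`: every 3-element of `B` is conjugate to an element of `Fi₂₃`.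
* `conj_fi23` : an injective homomorphism `f : Fi23 → L` such that every 3-element of `L` is conjugate to some `f a`;
* `three_elt` : from `AllC Fi23`, every 3-element of `L` is a commutator.
-/

set_option autoImplicit false

open Subgroup

namespace Cfsg.Agent.H58.Ore.BThree

open Cfsg Cfsg.Agent.H777.Ore

universe u

/-- `p`-elements are conjugate into subgroups of index prime to `p` -/
theorem exists_conj_mem {G : Type*} [Group G] [Finite G] {p k : ℕ} (hp : p.Prime) {R : Subgroup G}
    (hR : ¬ p ∣ R.index) {s : G} (hs : s ^ p ^ k = 1) : ∃ g : G, g⁻¹ * s * g ∈ R := by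
  have : Fact p.Prime := ⟨hp⟩
  have hP : IsPGroup p (zpowers s) := by
    rintro ⟨a, ha⟩
    obtain ⟨i, rfl⟩ := mem_zpowers_iff.1 ha
    refine ⟨k, Subtype.ext ?_⟩
    show (s ^ i) ^ p ^ k = 1
    rw [← zpow_natCast, ← zpow_mul, mul_comm, zpow_mul, zpow_natCast, hs, one_zpow]
  have hR' : ¬ p ∣ Nat.card (G ⧸ R) := hR
  obtain ⟨a, ha⟩ := hP.nonempty_fixed_point_of_prime_not_dvd_card (G ⧸ R) hR'
  obtain ⟨g, rfl⟩ := QuotientGroup.mk_surjective a
  refine ⟨g, ?_⟩
  have h1 : (QuotientGroup.mk (s * g) : G ⧸ R) = QuotientGroup.mk g := ha ⟨s, mem_zpowers s⟩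
  have h2 := QuotientGroup.eq.1 h1.symm
  rwa [← mul_assoc] at h2

/-- **`Fi₂₃` and the 3-elements of the Baby Monster.** -/
theorem conj_fi23 {L : Type u} [Group L] (h : Spor.IsoB L) : ∃ f : Spor.Fi23 →* L, Function.Injective f ∧
    ∀ (s : L) (k : ℕ), s ^ 3 ^ k = 1 → ∃ (g : L) (a : Spor.Fi23), g⁻¹ * s * g = f a := by
  obtain ⟨e⟩ := h
  have hB : Nat.card Spor.BabyMonster = 4154781481226426191177580544000000 := BM.KHAll.card_B
  have hfB : Finite Spor.BabyMonster := Nat.finite_of_card_ne_zero (by rw [hB]; norm_num)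
  have hF : Nat.card Spor.Fi23 = 4089470473293004800 := BM.Psi.card_Fi23
  have hL : Finite L := Finite.of_equiv _ e.symm.toEquiv
  let f := BM.Psi.psi2 BM.Psi.rel_of
  have hs : IsSimpleGroup Spor.Fi23 := Cfsg.Agent.S1697.result.1
  have hinj : Function.Injective f := by
    rw [← MonoidHom.ker_eq_bot_iff]
    rcases (inferInstance : f.ker.Normal).eq_bot_or_eq_top with h | h
    · exact h
    · exfalso
      have h1 : f (Fischer.Fi23Hom.gen .a) = 1 := by
        rw [← MonoidHom.mem_ker, h]
        exact mem_top _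
      rw [show f (Fischer.Fi23Hom.gen .a) = _ from BM.Psi.psi2_gen BM.Psi.rel_of .a] at h1
      have h2 := BM.KHAll.card_cent (BM.Psi.m2 .a)
      have h3 : centralizer ({BM.StageBFinalOf.gB (BM.Psi.m2 .a)} : Set Spor.BabyMonster) = ⊤ := by
        rw [eq_top_iff]
        intro g _
        rw [mem_centralizer_singleton_iff]
        have : BM.StageBFinalOf.gB (BM.Psi.m2 .a) = 1 := h1
        rw [this, mul_one, one_mul]
      rw [h3, card_top, hB] at h2
      norm_num at h2
  have hinj' : Function.Injective (e.symm.toMonoidHom.comp f) := e.symm.injective.comp hinj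
  refine ⟨e.symm.toMonoidHom.comp f, hinj', fun s k hsk => ?_⟩
  have h1 := (e.symm.toMonoidHom.comp f).range.card_mul_index
  rw [Nat.card_congr (MonoidHom.ofInjective hinj').toEquiv.symm, hF, Nat.card_congr e.toEquiv, hB] at h1
  have h2 : ¬ 3 ∣ (e.symm.toMonoidHom.comp f).range.index := by
    rintro ⟨c, hc⟩
    rw [hc] at h1
    omega
  obtain ⟨g, a, ha⟩ := exists_conj_mem Nat.prime_three h2 hsk
  exact ⟨g, a, ha.symm⟩

/-- **3-elements of the Baby Monster are commutators**, if `Fi₂₃` has the Ore property. -/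
theorem three_elt (hF : AllC Spor.Fi23) {L : Type u} [Group L] (h : Spor.IsoB L) {s : L} {k : ℕ} (hs : s ^ 3 ^ k = 1) :
    IsC s := by
  obtain ⟨f, -, h1⟩ := conj_fi23 h
  obtain ⟨g, a, ha⟩ := h1 s k hs
  refine IsC.of_conj g⁻¹ ?_
  rw [inv_inv, ha]
  exact (hF a).map f

end Cfsg.Agent.H58.Ore.BThree
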